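import Cfsg.Agent.H257.El.TopB

/-!
# TEAM ELUSIVE, sporadic groups: outer automorphisms of the top, conjugacy of involutions (helper257)
-/

set_option autoImplicit false

namespace Cfsg.Agent.H257.El

open Subgroup
open Cfsg.Agent.OrdDiv
open Cfsg.Agent.H278.El
open Cfsg.Agent.H396

universe u

namespace Top

variable {R : Type*} [Group R] [Finite R] {r s : ℕ} {O : Subgroup R} [O.Normal] {N : Subgroup (R ⧸ O)}

/-- a non-commutative `N` has trivial centralizer -/
theorem centralizer_bot (h : Top R r O N) (hna : ¬ ∀ a b : N, a * b = b * a) :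
    centralizer (N : Set (R ⧸ O)) = ⊥ := by
  have hN := h.normal
  have hsim := h.simple
  set C := centralizer (N : Set (R ⧸ O)) with hC
  have hCn : C.Normal := by rw [hC]; infer_instance
  refine h.bot C hCn fun hd => ?_
  have h1 : (C.subgroupOf N).Normal := inferInstance
  have h2 : C.subgroupOf N = ⊥ := by
    rcases hsim.eq_bot_or_eq_top_of_normal _ h1 with h2 | h2
    · exact h2
    · exfalso
      apply hna
      intro a b
      have h3 : a ∈ C.subgroupOf N := by rw [h2]; trivial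
      rw [mem_subgroupOf, hC, mem_centralizer_iff] at h3
      exact Subtype.ext (h3 b b.2).symm
  have h3 : C.relIndex N = Nat.card N := by
    rw [Subgroup.relIndex, h2, Subgroup.index_bot]
  have h4 : Nat.card N ∣ C.index := by
    rw [← h3]
    exact Subgroup.relIndex_dvd_index_of_normal C N
  apply h.sq'
  rw [← Subgroup.card_mul_index C, pow_two]
  exact Nat.mul_dvd_mul hd (h.dvd.trans h4)

theorem card_dvd_mulAut (h : Top R r O N) (hna : ¬ ∀ a b : N, a * b = b * a) :
    Nat.card (R ⧸ O) ∣ Nat.card (MulAut N) := by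
  have hN := h.normal
  let φ : (R ⧸ O) →* MulAut N := MulAut.conjNormal (H := N)
  refine Subgroup.card_dvd_of_injective φ ?_
  rw [injective_iff_map_eq_one]
  intro q hq
  have h1 : q ∈ centralizer (N : Set (R ⧸ O)) := by
    rw [mem_centralizer_iff]
    intro n hn
    have h2 : (φ q) ⟨n, hn⟩ = ⟨n, hn⟩ := by rw [hq]; rfl
    have h3 : q * n * q⁻¹ = n := congrArg Subtype.val h2
    calc n * q = (q * n * q⁻¹) * q := by rw [h3]
      _ = q * n := by group
  rw [h.centralizer_bot hna, mem_bot] at h1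
  exact h1

/-- the index of `N` divides the order of the outer automorphism group -/
theorem index_dvd_out (h : Top R r O N) (hna : ¬ ∀ a b : N, a * b = b * a) {o : ℕ}
    (ho : Nat.card (MulAut N) ∣ o * Nat.card N) : N.index ∣ o := by
  have h1 := (h.card_dvd_mulAut hna).trans ho
  rw [← Subgroup.card_mul_index N, mul_comm o] at h1
  exact Nat.dvd_of_mul_dvd_mul_left Nat.card_pos h1

end Top

/-- involutions whose product has odd order are conjugate -/
theorem conj_of_odd {G : Type*} [Group G] {s t : G} (hs : s * s = 1) (ht : t * t = 1) {k : ℕ}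
    (h : (s * t) ^ (2 * k + 1) = 1) : ∃ w : G, w * t * w⁻¹ = s := by
  refine ⟨(s * t) ^ (k + 1), ?_⟩
  have hs' : s⁻¹ = s := inv_eq_of_mul_eq_one_left hs
  have ht' : t⁻¹ = t := inv_eq_of_mul_eq_one_left ht
  have h1 : t * (s * t)⁻¹ * t⁻¹ = s * t := by
    rw [mul_inv_rev, hs', ht', ← mul_assoc, ht, one_mul]
  have h2 : t * ((s * t) ^ (k + 1))⁻¹ = (s * t) ^ (k + 1) * t := by
    have h3 := conj_pow (i := k + 1) (a := t) (b := (s * t)⁻¹)
    rw [h1, inv_pow] at h3
    calc t * ((s * t) ^ (k + 1))⁻¹ = (t * ((s * t) ^ (k + 1))⁻¹ * t⁻¹) * t := by rw [inv_mul_cancel_right]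
      _ = _ := by rw [← h3]
  rw [mul_assoc, h2, ← mul_assoc, ← pow_add, show k + 1 + (k + 1) = (2 * k + 1) + 1 by ring, pow_succ, h, one_mul,
    mul_assoc, ht, mul_one]

/-- if all involutions of `R / O` are conjugate and `|O|` is odd, all involutions of `R` are conjugate -/
theorem conj_of_quot {R : Type*} [Group R] [Finite R] (O : Subgroup R) [O.Normal] (hO : ¬ 2 ∣ Nat.card O)
    (hq : ∀ a b : R ⧸ O, orderOf a = 2 → orderOf b = 2 → ∃ g, g * b * g⁻¹ = a) {a b : R} (ha : orderOf a = 2)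
    (hb : orderOf b = 2) : ∃ g : R, g * b * g⁻¹ = a := by
  have key : ∀ c : R, orderOf c = 2 → orderOf (QuotientGroup.mk' O c) = 2 := by
    intro c hc
    have h1 : orderOf (QuotientGroup.mk' O c) ∣ 2 := by
      rw [← hc]
      exact orderOf_map_dvd _ _
    rcases (Nat.dvd_prime Nat.prime_two).1 h1 with h2 | h2
    · exfalso
      have h3 : c ∈ O := (QuotientGroup.eq_one_iff c).1 (orderOf_eq_one_iff.1 h2)
      have h4 := Subgroup.orderOf_dvd_natCard O h3
      rw [hc] at h4
      exact hO h4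
    · exact h2
  obtain ⟨q, hqq⟩ := hq _ _ (key a ha) (key b hb)
  obtain ⟨g, rfl⟩ := QuotientGroup.mk'_surjective O q
  have hsq : ∀ c : R, orderOf c = 2 → c * c = 1 := by
    intro c hc
    rw [← pow_two, ← hc, pow_orderOf_eq_one]
  have hb' : orderOf (g * b * g⁻¹) = 2 := by
    rw [← hb]
    exact (orderOf_injective (MulAut.conj g).toMonoidHom (MulAut.conj g).injective b)
  have hm : a * (g * b * g⁻¹) ∈ O := by
    rw [← QuotientGroup.eq_one_iff (N := O)]
    change QuotientGroup.mk' O (a * (g * b * g⁻¹)) = 1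
    rw [map_mul, map_mul, map_mul, map_inv, hqq, ← map_mul, hsq a ha, map_one]
  have hodd : ∃ k, (a * (g * b * g⁻¹)) ^ (2 * k + 1) = 1 := by
    have h1 := Subgroup.orderOf_dvd_natCard O hm
    have h2 : ¬ 2 ∣ orderOf (a * (g * b * g⁻¹)) := fun h => hO (h.trans h1)
    obtain ⟨k, hk⟩ := Nat.odd_iff.2 (by omega : orderOf (a * (g * b * g⁻¹)) % 2 = 1)
    exact ⟨k, by rw [← hk, pow_orderOf_eq_one]⟩
  obtain ⟨k, hk⟩ := hodd
  obtain ⟨w, hw⟩ := conj_of_odd (hsq a ha) (hsq _ hb') hk
  refine ⟨w * g, ?_⟩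
  rw [← hw]
  group

variable {T : Type u} [Group T] [Finite T]

/-- one class of involutions in `R`, two classes in `T` -/
theorem false_of_conj {R : Subgroup T} (hnd : ¬ Der T R) {s : ℕ} (hs : s.Prime)
    (hR : ∀ a b : R, orderOf a = s → orderOf b = s → ∃ g : R, g * b * g⁻¹ = a) {x y : T} (hx : orderOf x = s)
    (hy : orderOf y = s)
    (hxy : Nat.card (centralizer ({x} : Set T)) ≠ Nat.card (centralizer ({y} : Set T))) : False := by
  obtain ⟨φ, hφ⟩ := exists_aut_of_not_der hnd x (by rw [hx]; exact hs)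
  obtain ⟨ψ, hψ⟩ := exists_aut_of_not_der hnd y (by rw [hy]; exact hs)
  have hx' : orderOf (⟨φ x, hφ⟩ : R) = s := by
    rw [Subgroup.orderOf_mk, ← hx]
    exact (orderOf_injective φ.toMonoidHom φ.injective x)
  have hy' : orderOf (⟨ψ y, hψ⟩ : R) = s := by
    rw [Subgroup.orderOf_mk, ← hy]
    exact (orderOf_injective ψ.toMonoidHom ψ.injective y)
  obtain ⟨g, hg⟩ := hR _ _ hx' hy'
  have h1 : (g : T) * ψ y * (g : T)⁻¹ = φ x := congrArg Subtype.val hg
  apply hxy
  rw [← card_cent_aut φ x, ← h1, ← card_cent_aut ψ y]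
  exact card_cent_aut (MulAut.conj (g : T)) (ψ y)

/-- the Sylow `p`-subgroup of `N` is in the centralizer of an element of order `s` -/
theorem SitA.exists_cent {n : ℕ} {l : List (ℕ × ℕ)} {r : ℕ} {R : Subgroup T} (S : SitA T n l r R)
    {O : Subgroup R} [O.Normal] {N : Subgroup (R ⧸ O)} (h : Top R r O N) (hna : ¬ ∀ a b : N, a * b = b * a)
    {s p a : ℕ} (hs : s.Prime) (hp : p.Prime) (hsp : s ≠ p) (hsn : s ∣ n) (hsq : ¬ s ^ 2 ∣ n)
    (hsN : ¬ s ∣ Nat.card N) (ha : p ^ a ∣ Nat.card N) (ha' : ¬ p ^ (a + 1) ∣ Nat.card N)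
    (hm : ∀ b, 1 ≤ b → b ≤ a → p ^ b % s ≠ 1) :
    ∃ y : T, orderOf y = s ∧ p ^ a ∣ Nat.card (centralizer ({y} : Set T)) := by
  obtain ⟨y, hy, hd⟩ := h.exists_cent hna hs hp hsp (S.all s hs hsn) (fun h2 => hsq (h2.trans S.dvd_n)) hsN ha ha' hm
  refine ⟨y, by rw [Subgroup.orderOf_coe, hy], hd.trans ?_⟩
  let f : centralizer ({y} : Set R) →* centralizer ({(y : T)} : Set T) :=
    { toFun := fun g => ⟨g, mem_centralizer_singleton_iff.2 (congrArg Subtype.val (mem_centralizer_singleton_iff.1 g.2))⟩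
      map_one' := rfl
      map_mul' := fun _ _ => rfl }
  refine Subgroup.card_dvd_of_injective f fun a b hab => ?_
  apply Subtype.ext
  apply Subtype.ext
  exact congrArg (fun w : centralizer ({(y : T)} : Set T) => (w : T)) hab

end Cfsg.Agent.H257.El
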