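import Cfsg.Agent.H257.El.Row.HN
import Cfsg.Agent.H257.El.Row.ON
import Cfsg.Agent.H997.PF.Rows
import Cfsg.Agent.S2078
import Cfsg.Agent.S2082

/-!
# S3522: the rows of the groups of O'Nan and Harada-Norton (helper257)
-/

set_option autoImplicit false

namespace Cfsg.Agent.H257.El.PF

open Cfsg Subgroup Cfsg.Agent.OrdDiv Cfsg.Agent.H997.PF Cfsg.Agent.H938.Sax

universe u

/-- the 2-part of `|R|` if the core has odd order and `N` is commutative -/
theorem not_four {R : Type*} [Group R] [Finite R] {r : ℕ} {O : Subgroup R} [O.Normal] {N : Subgroup (R ⧸ O)}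
    (h : Top R r O N) (hc : ∀ a b : N, a * b = b * a) (hr2 : r ≠ 2) (h2O : ¬ 2 ∣ Nat.card O) (hr4 : ¬ 4 ∣ r - 1) :
    ¬ 2 ^ (1 + 1) ∣ Nat.card R := by
  intro h4
  have h6 : 2 ^ 2 ∣ Nat.card (R ⧸ O) := by
    rw [← card_quot_mul O] at h4
    refine Nat.Coprime.dvd_of_dvd_mul_right ?_ h4
    exact Nat.Coprime.pow_left 2 ((Nat.Prime.coprime_iff_not_dvd Nat.prime_two).2 h2O)
  rw [← Subgroup.card_mul_index N, h.card_of_comm hc] at h6
  have h7 : 2 ^ 2 ∣ N.index := by
    refine Nat.Coprime.dvd_of_dvd_mul_left ?_ h6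
    exact Nat.Coprime.pow_left 2 ((Nat.coprime_primes Nat.prime_two h.prime).2 hr2.symm)
  exact hr4 (h7.trans (h.index_dvd_of_comm hc))

/-- an element of order `s` commuting with a Sylow `p`-subgroup commutes with a conjugate of any element of order `p` -/
theorem dvd_card_cent {T : Type*} [Group T] [Finite T] {p s a : ℕ} (hp : p.Prime) (hT : ¬ p ^ (a + 1) ∣ Nat.card T)
    {y : T} (hy : orderOf y = s) (hd : p ^ a ∣ Nat.card (centralizer ({y} : Set T))) {x : T} (hx : orderOf x = p) :
    s ∣ Nat.card (centralizer ({x} : Set T)) := by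
  have hp' : Fact p.Prime := ⟨hp⟩
  obtain ⟨P0, hP0⟩ := Sylow.exists_subgroup_card_pow_prime (G := centralizer ({y} : Set T)) p (n := a) hd
  obtain ⟨P, hPc, hPle⟩ : ∃ P : Subgroup T, Nat.card P = p ^ a ∧ P ≤ centralizer ({y} : Set T) := by
    refine ⟨P0.map (centralizer ({y} : Set T)).subtype, ?_, ?_⟩
    · rw [Subgroup.card_map_of_injective (Subgroup.subtype_injective _), hP0]
    · rintro _ ⟨r, -, rfl⟩
      exact r.2
  have hfac : (Nat.card T).factorization p = a := by
    refine le_antisymm ?_ ?_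
    · by_contra hlt
      push Not at hlt
      exact hT ((pow_dvd_pow p hlt).trans (Nat.ordProj_dvd _ _))
    · have h1 : p ^ a ∣ Nat.card T := by
        rw [← hPc]
        exact Subgroup.card_subgroup_dvd_card P
      exact (hp.pow_dvd_iff_le_factorization Nat.card_pos.ne').1 h1
  let S : Sylow p T := Sylow.ofCard P (by rw [hPc, hfac])
  have hxp : IsPGroup p (zpowers x) := IsPGroup.of_card (n := 1) (by rw [Nat.card_zpowers, hx, pow_one])
  obtain ⟨Q, hQ⟩ := hxp.exists_le_sylow
  obtain ⟨g, hg⟩ := MulAction.exists_smul_eq T Q S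
  have hxQ : x ∈ (Q : Subgroup T) := hQ (mem_zpowers x)
  have h1 : g * x * g⁻¹ ∈ P := by
    have h2 : g * x * g⁻¹ ∈ ((g • Q : Sylow p T) : Subgroup T) := by
      rw [Sylow.coe_subgroup_smul, Subgroup.mem_pointwise_smul_iff_inv_smul_mem]
      have h3 : (MulAut.conj g)⁻¹ • (g * x * g⁻¹) = x := by
        rw [← map_inv, MulAut.smul_def, MulAut.conj_apply]
        group
      rw [h3]
      exact hxQ
    rw [hg] at h2
    exact h2
  have h2 := mem_centralizer_singleton_iff.1 (hPle h1)
  have h3 : g⁻¹ * y * g ∈ centralizer ({x} : Set T) := by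
    rw [mem_centralizer_singleton_iff]
    calc g⁻¹ * y * g * x = g⁻¹ * (y * (g * x * g⁻¹)) * g := by group
      _ = g⁻¹ * ((g * x * g⁻¹) * y) * g := by rw [h2]
      _ = _ := by group
  have h4 := Subgroup.orderOf_dvd_natCard _ h3
  have h5 : orderOf (g⁻¹ * y * g) = s := by
    rw [← hy]
    have h6 := orderOf_injective (MulAut.conj g⁻¹).toMonoidHom (MulAut.conj g⁻¹).injective y
    rw [← h6]
    show _ = orderOf (g⁻¹ * y * g⁻¹⁻¹)
    rw [inv_inv]
  rwa [h5] at h4

/-- all primes divide `|K|` unless `K` is killed -/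
theorem all_of_not {T : Type*} [Group T] {n d : ℕ} (hc : Nat.card T = n) {K : Subgroup T} (h : ¬ Kill T d K) :
    ∀ p : ℕ, p.Prime → p ∣ n → p ∣ Nat.card K := by
  intro p hp hd
  by_contra hn
  exact h (.pgap ⟨p, hp, by rw [hc]; exact hd, hn⟩)

/-- `exNA` excludes a group -/
theorem false_of_exNA {T : Type u} [Group T] [Finite T] {n : ℕ} {l : List (ℕ × ℕ)} {r : ℕ} {R : Subgroup T}
    {ss : List ℕ} (S : SitA T n l r R) {O : Subgroup R} [O.Normal] {N : Subgroup (R ⧸ O)} (h : Top R r O N)
    (hna : ¬ ∀ a b : N, a * b = b * a) (hss : ∀ s ∈ ss, s.Prime ∧ ∀ z : T, orderOf z ≠ s * 2) {g : Grp}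
    (hgc : Nat.card N = ordN g) (h1 : exNA n ss g = true) : False := by
  unfold exNA at h1
  rw [List.any_eq_true] at h1
  obtain ⟨s, hs, h2⟩ := h1
  simp only [Bool.and_eq_true] at h2
  obtain ⟨⟨⟨⟨h3, h4⟩, h5⟩, h6⟩, h7⟩ := h2
  rw [List.any_eq_true] at h7
  obtain ⟨a, -, h12⟩ := h7
  simp only [Bool.and_eq_true] at h12
  obtain ⟨⟨⟨h13, h14⟩, h15⟩, h16⟩ := h12
  have h17 : s ∣ Nat.card N := by
    refine S.dvd_of_na h hna (hss s hs).1 (by simpa using h3) (hss s hs).2
      (Nat.dvd_of_mod_eq_zero (by simpa using h4)) ?_ (a := a)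
      (Nat.le_of_ble_eq_true h13) ?_ ?_ (by simpa using h16)
    · intro h
      rw [Nat.mod_eq_zero_of_dvd h] at h5
      exact absurd h5 (by decide)
    · rw [hgc]
      exact Nat.dvd_of_mod_eq_zero (by simpa using h14)
    · rw [hgc]
      intro h
      rw [Nat.mod_eq_zero_of_dvd h] at h15
      exact absurd h15 (by decide)
  rw [hgc] at h17
  rw [Nat.mod_eq_zero_of_dvd h17] at h6
  exact absurd h6 (by decide)

def lON : List (ℕ × ℕ) := [(2, 9), (3, 4), (5, 1), (7, 3), (11, 1), (19, 1), (31, 1)]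

theorem on_chk : ((surv 460815505920 lON 19 []).all fun g => exNA 460815505920 [31] g ||
    ((ordN g % 31 != 0) && (ordN g % 7 ^ 3 == 0) && (ordN g % 7 ^ (3 + 1) != 0))) = true := by decide +kernel

/-- an element of order 7 commuting with no element of order 31 -/
theorem on_seven (tab : OrderTable.{u}) (known : Known.{u}) {T : Type u} [Group T] [Finite T] (h : Spor.IsoON T) :
    ∃ y : T, orderOf y = 7 ∧ ¬ 31 ∣ Nat.card (centralizer ({y} : Set T)) := by
  have hc := NotCT.Orders.on h
  obtain ⟨e⟩ := h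
  obtain ⟨y, hy, h4, h8⟩ := exists_cent_congr e (P := fun k => 4 ∣ k ∧ ¬ 8 ∣ k) Row.ONRow.on_model
  have h31 : ∀ z : T, orderOf z ≠ 31 * 2 := noOrd_congr e (Row.noOrd_on (by norm_num) (by norm_num))
  have hlt : Nat.card (centralizer ({y} : Set T)) < 460815505920 := by
    have h1 := Subgroup.card_subgroup_dvd_card (centralizer ({y} : Set T))
    rw [hc] at h1
    refine lt_of_le_of_ne (Nat.le_of_dvd (by norm_num) h1) fun h2 => ?_
    rw [h2] at h8
    exact h8 (by norm_num)
  refine ⟨y, hy, not_dvd_of_four tab known (n := 460815505920) (b := 2)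
      (l := [(2, 9), (3, 4), (5, 1), (7, 3), (11, 1), (19, 1), (31, 1)]) ?_ hlt (by decide +kernel) (by norm_num)
      (by norm_num) (by norm_num) (fun z => ?_) h4 (by norm_num) h8 ?_ (by decide +kernel)⟩
  · rw [← hc]
    exact Subgroup.card_subgroup_dvd_card _
  · rw [← Subgroup.orderOf_coe]
    exact h31 _
  · intro i h1 h2
    interval_cases i <;> norm_num

/-- **the row of the O'Nan group** -/
theorem pf_on (tab : OrderTable.{u}) (known : Known.{u}) {T : Type u} [Group T] (h : Spor.IsoON T) :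
    Cfsg.Agent.H997.PF.Row T := by
  have hc := NotCT.Orders.on h
  have : Finite T := Nat.finite_of_card_ne_zero (by rw [hc]; norm_num)
  obtain ⟨x, hx, hx31⟩ := on_seven tab known h
  obtain ⟨e⟩ := h
  have hO : Nat.card (Cfsg.Out T) = 2 := by
    rw [Cfsg.Agent.H997.PF.card_out_congr e]
    exact S2078.result
  have h19 : ∀ z : T, orderOf z ≠ 19 * 2 := noOrd_congr e (Row.noOrd_on (by norm_num) (by norm_num))
  have h31 : ∀ z : T, orderOf z ≠ 31 * 2 := noOrd_congr e (Row.noOrd_on (by norm_num) (by norm_num))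
  refine Row.kill_two hO fun K hK => ?_
  by_contra hk
  have S : SitA T 460815505920 lON 19 K := sitA_of_not tab known hc (by decide +kernel) (by norm_num)
    (by decide +kernel) (by decide +kernel) hK (all_of_not hc hk)
  obtain ⟨O, hO', N, ht⟩ := S.exists_top
  have h2O := S.not_dvd_core ht Nat.prime_two (by norm_num) h19 (by decide +kernel)
  have hcomm : ∀ a b : N, a * b = b * a := by
    by_contra hna
    obtain ⟨g, hg, -, hgc⟩ := S.exists_surv ht hna [] (by simp)
    have h1 := List.all_eq_true.1 on_chk g hg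
    rw [Bool.or_eq_true] at h1
    rcases h1 with h1 | h1
    · exact false_of_exNA S ht hna (ss := [31]) (by
        intro s hs
        rw [List.mem_singleton] at hs
        rw [hs]
        exact ⟨by norm_num, h31⟩) hgc h1
    · rw [Bool.and_eq_true, Bool.and_eq_true] at h1
      obtain ⟨⟨h2, h3⟩, h4⟩ := h1
      obtain ⟨w, hw, hwd⟩ := S.exists_cent ht hna (s := 31) (p := 7) (a := 3) (by norm_num) (by norm_num)
        (by norm_num) (by norm_num) (by norm_num) (by
          rw [hgc]
          intro hd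
          rw [Nat.mod_eq_zero_of_dvd hd] at h2
          exact absurd h2 (by decide)) (by
          rw [hgc]
          exact Nat.dvd_of_mod_eq_zero (by simpa using h3)) (by
          rw [hgc]
          intro hd
          rw [Nat.mod_eq_zero_of_dvd hd] at h4
          exact absurd h4 (by decide)) (fun b hb hba => by interval_cases b <;> norm_num)
      exact hx31 (dvd_card_cent (p := 7) (a := 3) (by norm_num) (by rw [hc]; norm_num) hw hwd hx)
  exact hk (Kill.num_one (v := 2) (k := 9) (l := 1) Nat.prime_two (by rw [hc]; norm_num)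
    (not_four ht hcomm (by norm_num) h2O (by norm_num)) (by norm_num))

/-- **the row of the Harada-Norton group** -/
theorem pf_hn (tab : OrderTable.{u}) (known : Known.{u}) {T : Type u} [Group T] (h : Spor.IsoHN T) :
    Cfsg.Agent.H997.PF.Row T := by
  have hc := NotCT.Orders.hn h
  have : Finite T := Nat.finite_of_card_ne_zero (by rw [hc]; norm_num)
  have h19 : ∀ z : T, orderOf z ≠ 19 * 2 :=
    noOrd_of_noComm (by norm_num) Nat.prime_two (H393.Iso.na_hn h)
  obtain ⟨e⟩ := h
  have hO : Nat.card (Cfsg.Out T) = 2 := by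
    rw [Cfsg.Agent.H997.PF.card_out_congr e]
    exact S2082.result
  have h11 : ∀ y : T, orderOf y = 11 → ¬ 4 ∣ Nat.card (centralizer ({y} : Set T)) := by
    intro y hy h4
    obtain ⟨z, hz, h5⟩ := exists_cent_congr e.symm (s := 11) (P := fun k => 4 ∣ k) ⟨y, hy, h4⟩
    exact Cfsg.Agent.H149.Sp.hn_cent_eleven z hz h5
  refine Row.kill_two hO fun K hK => ?_
  by_contra hk
  have S : SitA T 273030912000000 Row.lHN 19 K := sitA_of_not tab known hc (by decide +kernel) (by norm_num)
    (by decide +kernel) (by decide +kernel) hK (all_of_not hc hk)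
  obtain ⟨O, hO', N, ht⟩ := S.exists_top
  have h2O := S.not_dvd_core ht Nat.prime_two (by norm_num) h19 (by decide +kernel)
  have h16 : ¬ 2 ^ (3 + 1) ∣ Nat.card K := by
    by_cases hna : ∀ a b : N, a * b = b * a
    · intro h16
      exact not_four ht hna (by norm_num) h2O (by norm_num) ((by norm_num : 2 ^ (1 + 1) ∣ 2 ^ (3 + 1)).trans h16)
    obtain ⟨g, hg, hreal, hgc⟩ := S.exists_surv ht hna [] (by simp)
    have h1 := List.all_eq_true.1 Row.hn_chk1 g hg
    rw [Bool.or_eq_true] at h1
    rcases h1 with h1 | h1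
    · exfalso
      rw [Bool.and_eq_true, Bool.or_eq_true, Bool.and_eq_true, Bool.and_eq_true] at h1
      obtain ⟨h2, h3⟩ := h1
      have h11N : ¬ 11 ∣ Nat.card N := by
        rw [hgc]
        intro hd
        rw [Nat.mod_eq_zero_of_dvd hd] at h2
        exact absurd h2 (by decide)
      have key : ∀ a, 2 ≤ a → a ≤ 9 → 2 ^ a ∣ Nat.card N → ¬ 2 ^ (a + 1) ∣ Nat.card N → False := by
        intro a ha2 ha9 h4 h5
        obtain ⟨w, hw, hwd⟩ := S.exists_cent ht hna (s := 11) (p := 2) (by norm_num) Nat.prime_two (by norm_num)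
          (by norm_num) (by norm_num) h11N h4 h5 (fun b hb hba => by
            have : b ≤ 9 := hba.trans ha9
            interval_cases b <;> norm_num)
        exact h11 w hw ((pow_dvd_pow 2 ha2).trans hwd)
      rcases h3 with ⟨h4, h5⟩ | ⟨h4, h5⟩
      · refine key 2 le_rfl (by norm_num) ?_ ?_
        · rw [hgc]; exact Nat.dvd_of_mod_eq_zero (by simpa using h4)
        · rw [hgc]
          intro hd
          rw [Nat.mod_eq_zero_of_dvd hd] at h5
          exact absurd h5 (by decide)
      · refine key 9 (by norm_num) le_rfl ?_ ?_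
        · rw [hgc]; exact Nat.dvd_of_mod_eq_zero (by simpa using h4)
        · rw [hgc]
          intro hd
          rw [Nat.mod_eq_zero_of_dvd hd] at h5
          exact absurd h5 (by decide)
    · -- `N` is `J1`
      have hg1 : g = .j1 := by
        cases g <;> first | rfl | (exact absurd h1 Bool.false_ne_true)
      have hJ : Spor.IsoJ1 N := by
        rw [hg1] at hreal
        exact hreal
      have hidx : N.index = 1 := Nat.dvd_one.1 (ht.index_dvd_out hna (Row.card_mulAut_j1 hJ))
      intro h16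
      rw [← card_quot_mul O] at h16
      have h17 : 2 ^ (3 + 1) ∣ Nat.card (K ⧸ O) := by
        refine Nat.Coprime.dvd_of_dvd_mul_right ?_ h16
        exact Nat.Coprime.pow_left _ ((Nat.Prime.coprime_iff_not_dvd Nat.prime_two).2 h2O)
      rw [← Subgroup.card_mul_index N, hidx, mul_one, hgc, hg1] at h17
      revert h17
      decide +kernel
  exact hk (Kill.num_one (v := 2) (k := 14) (l := 3) Nat.prime_two (by rw [hc]; norm_num) h16 (by norm_num))

end Cfsg.Agent.H257.El.PF
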