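import Cfsg.Agent.H257.El.Top
import Cfsg.Agent.H439.Der.Three

/-!
# Numerical criteria for `¬ SC T v` (helper257)

* `not_SC_of_mod` : `v ∥ |T| = n`, `|Out T| ≤ o`, `o * ((n / v) % v) < v - 1`;
* `Three.of_comm` : a missing element of order `p` commuting with elements of orders `q₁ ≠ q₂` prime to `p`.
-/

set_option autoImplicit false

namespace Cfsg.Agent.H257.El

open Subgroup
open Cfsg.Agent.H439.Der

variable {T : Type*} [Group T]

theorem SC.noOrd [Finite T] {v : ℕ} (hv : v.Prime) (h : SC T v) (p : ℕ) (hp : p.Prime) (z : T) :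
    orderOf z ≠ v * p := by
  intro hz
  refine not_SC_of_orderOf hv (y := z) (by rw [hz]; exact dvd_mul_right _ _) ?_ h
  rw [hz]
  intro h1
  have := hv.pos
  have := hp.one_lt
  nlinarith

/-- **Numerical form.** -/
theorem not_SC_of_mod [Finite T] {v n o : ℕ} (hv : v.Prime) (hn : Nat.card T = n) (hd : v ∣ n) (h2 : ¬ v ^ 2 ∣ n)
    (hne : n ≠ v) (hO : Nat.card (Cfsg.Out T) ≤ o) (hlt : o * ((n / v) % v) < v - 1) : ¬ SC T v := by
  intro hs
  have hv' : Fact v.Prime := ⟨hv⟩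
  subst hn
  obtain ⟨x, hx⟩ := exists_prime_orderOf_dvd_card' v hd
  have hc := card_cent_of_noOrd hv h2 (fun p hp _ => SC.noOrd hv hs p hp) hx
  have hN := (card_norm_mod hv h2 hne hc).1
  exact not_SC_of_lt hv hx hc (hN.trans (mul_comm _ _)).le hO hlt hs

/-- boolean form -/
def chkSC (n v o : ℕ) : Bool := (n % v == 0) && (n % v ^ 2 != 0) && (n != v) && Nat.blt (o * ((n / v) % v)) (v - 1)

theorem not_SC_of_chk [Finite T] {v n o : ℕ} (hv : v.Prime) (hn : Nat.card T = n) (hO : Nat.card (Cfsg.Out T) ≤ o)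
    (h : chkSC n v o = true) : ¬ SC T v := by
  unfold chkSC at h
  simp only [Bool.and_eq_true] at h
  obtain ⟨⟨⟨h1, h2⟩, h3⟩, h4⟩ := h
  refine not_SC_of_mod hv hn (Nat.dvd_of_mod_eq_zero (by simpa using h1)) (fun h => ?_) (by simpa using h3) hO ?_
  · rw [Nat.mod_eq_zero_of_dvd h] at h2
    exact absurd h2 (by decide)
  · simpa [Nat.blt_eq] using h4

theorem orderOf_mul_coprime {x y : T} {p q : ℕ} (hx : orderOf x = p) (hy : orderOf y = q) (hpq : Nat.Coprime p q)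
    (hc : x * y = y * x) : orderOf (x * y) = p * q := by
  rw [(show Commute x y from hc).orderOf_mul_eq_mul_orderOf_of_coprime (by rwa [hx, hy]), hx, hy]

/-- a power of `x * y` is `x` -/
theorem mem_zpowers_mul_of_comm {x y : T} {p q : ℕ} (hx : orderOf x = p) (hy : orderOf y = q) (hpq : Nat.Coprime p q)
    (hc : x * y = y * x) : x ∈ zpowers (x * y) := by
  have h1 : (x * y) ^ q = x ^ q := by
    rw [(show Commute x y from hc).mul_pow, ← hy, pow_orderOf_eq_one, mul_one]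
  have h2 : x ∈ zpowers (x ^ q) := by
    rw [mem_zpowers_iff]
    refine ⟨Nat.gcdB p q, ?_⟩
    rw [← zpow_natCast, ← zpow_mul]
    have h3 := Nat.gcd_eq_gcd_ab p q
    rw [Nat.coprime_iff_gcd_eq_one.1 hpq] at h3
    have h4 : (q : ℤ) * Nat.gcdB p q = 1 - p * Nat.gcdA p q := by push_cast at h3; linarith
    rw [h4, zpow_sub, zpow_one, zpow_mul, zpow_natCast, ← hx, pow_orderOf_eq_one, one_zpow, inv_one, mul_one]
  rw [← h1] at h2
  exact (zpowers_le.2 (pow_mem (mem_zpowers _) _)) h2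

theorem not_mem_of_zpowers {R : Subgroup T} {x z : T} (hx : ∀ φ : T ≃* T, φ x ∉ R) (h : x ∈ zpowers z)
    (φ : T ≃* T) : φ z ∉ R := by
  intro hz
  obtain ⟨j, rfl⟩ := mem_zpowers_iff.1 h
  apply hx φ
  rw [map_zpow]
  exact zpow_mem hz j

/-- a missing element `y` of order `p` commuting with elements of orders `q₁ ≠ q₂` -/
theorem Three.of_comm {R : Subgroup T} {y s t : T} {p q₁ q₂ : ℕ} (hy : orderOf y = p) (hs : orderOf s = q₁)
    (ht : orderOf t = q₂) (hp : 0 < p) (h1 : Nat.Coprime p q₁) (h2 : Nat.Coprime p q₂) (hq₁ : q₁ ≠ 1) (hq₂ : q₂ ≠ 1)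
    (hq : q₁ ≠ q₂) (hys : y * s = s * y) (hyt : y * t = t * y) (hR : ∀ φ : T ≃* T, φ y ∉ R) : Three T R := by
  have hos := orderOf_mul_coprime hy hs h1 hys
  have hot := orderOf_mul_coprime hy ht h2 hyt
  have key : ∀ q : ℕ, q ≠ 1 → p ≠ p * q := fun q hq h => hq (Nat.eq_of_mul_eq_mul_left hp (by omega : p * q = p * 1))
  refine ⟨y, y * s, y * t, hR, not_mem_of_zpowers hR (mem_zpowers_mul_of_comm hy hs h1 hys),
    not_mem_of_zpowers hR (mem_zpowers_mul_of_comm hy ht h2 hyt), fun φ hφ => ?_, fun φ hφ => ?_, fun φ hφ => ?_⟩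
  · apply key q₁ hq₁
    rw [← hos, ← hφ, Cfsg.Agent.H938.Sax.orderOf_mulEquiv, hy]
  · apply key q₂ hq₂
    rw [← hot, ← hφ, Cfsg.Agent.H938.Sax.orderOf_mulEquiv, hy]
  · have h3 : orderOf (y * s) = orderOf (y * t) := by rw [← hφ, Cfsg.Agent.H938.Sax.orderOf_mulEquiv]
    rw [hos, hot] at h3
    exact hq (Nat.eq_of_mul_eq_mul_left hp h3)

end Cfsg.Agent.H257.El
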