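import Cfsg.Agent.H257.El.SC

/-!
# Numerical criterion for `¬ SCC T v` (helper257)

`not_SCC_of_mod` : `v ∥ |T| = n`, `|Out T| = 1`, no elements of order `2 v`, `2 * ((n / v) % v) < v - 1`.
-/

set_option autoImplicit false

namespace Cfsg.Agent.H257.El

open Subgroup
open Cfsg.Agent.H439.Der

variable {T : Type*} [Group T]

theorem exists_conj_of_out (hO : Nat.card (Cfsg.Out T) = 1) (φ : T ≃* T) : ∃ g : T, ∀ x : T, φ x = g * x * g⁻¹ := by
  have h1 : Subsingleton (Cfsg.Out T) := (Nat.card_eq_one_iff_unique.1 hO).1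
  have h2 : (QuotientGroup.mk (φ : MulAut T) : Cfsg.Out T) = QuotientGroup.mk 1 := Subsingleton.elim _ _
  have h3 : (φ : MulAut T) ∈ Cfsg.Inn T := by
    have h4 : (QuotientGroup.mk (φ : MulAut T) : Cfsg.Out T) = 1 := h2
    exact (QuotientGroup.eq_one_iff _).1 h4
  obtain ⟨g, hg⟩ := h3
  refine ⟨g, fun x => ?_⟩
  have h5 : MulAut.conj g = (φ : MulAut T) := hg
  rw [← MulAut.conj_apply, h5]

/-- in a group of odd order a nontrivial element is not conjugate to its inverse -/
theorem eq_one_of_conj_inv {g w : T} (hg : ¬ 2 ∣ orderOf g) (hw : ¬ 2 ∣ orderOf w) (h : g * w * g⁻¹ = w⁻¹) : w = 1 := by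
  have h1 : Commute (g ^ 2) w := by
    show g ^ 2 * w = w * g ^ 2
    have h2 : g ^ 2 * w * (g ^ 2)⁻¹ = w := by
      calc g ^ 2 * w * (g ^ 2)⁻¹ = g * (g * w * g⁻¹) * g⁻¹ := by rw [pow_two]; group
        _ = g * w⁻¹ * g⁻¹ := by rw [h]
        _ = (g * w * g⁻¹)⁻¹ := by group
        _ = w := by rw [h, inv_inv]
    calc g ^ 2 * w = g ^ 2 * w * (g ^ 2)⁻¹ * g ^ 2 := by group
      _ = w * g ^ 2 := by rw [h2]
  obtain ⟨k, hk⟩ : ∃ k, orderOf g = 2 * k + 1 := ⟨orderOf g / 2, by omega⟩
  have h2 : (g ^ 2) ^ (k + 1) = g := by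
    rw [← pow_mul, show 2 * (k + 1) = orderOf g + 1 by omega, pow_succ, pow_orderOf_eq_one, one_mul]
  have h3 : Commute g w := by
    rw [← h2]
    exact h1.pow_left _
  have h4 : w = w⁻¹ := by
    rw [← h, h3.eq, mul_inv_cancel_right]
  have h5 : w ^ 2 = 1 := by
    rw [pow_two]
    nth_rw 1 [h4]
    exact inv_mul_cancel w
  have h6 := orderOf_dvd_of_pow_eq_one h5
  rcases (Nat.dvd_prime Nat.prime_two).1 h6 with h7 | h7
  · exact orderOf_eq_one_iff.1 h7
  · exact absurd (by rw [h7]) hw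

/-- **Numerical form.** -/
theorem not_SCC_of_mod [Finite T] {v n : ℕ} (hv : v.Prime) (hv2 : v ≠ 2) (hn : Nat.card T = n) (hd : v ∣ n)
    (h2 : ¬ v ^ 2 ∣ n) (hne : n ≠ v) (hO : Nat.card (Cfsg.Out T) = 1) (hNA : ∀ z : T, orderOf z ≠ v * 2)
    (hlt : 2 * ((n / v) % v) < v - 1) : ¬ SCC T v := by
  classical
  intro hs
  have hv' : Fact v.Prime := ⟨hv⟩
  have := Fintype.ofFinite T
  subst hn
  obtain ⟨a, b, hab⟩ := hs
  have hab' : ∀ z : T, v ∣ orderOf z → (∃ g : T, g * a * g⁻¹ = z) ∨ ∃ g : T, g * b * g⁻¹ = z := by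
    intro z hz
    rcases hab z hz with ⟨φ, hφ⟩ | ⟨φ, hφ⟩
    · obtain ⟨g, hg⟩ := exists_conj_of_out hO φ
      exact Or.inl ⟨g, by rw [← hg, hφ]⟩
    · obtain ⟨g, hg⟩ := exists_conj_of_out hO φ
      exact Or.inr ⟨g, by rw [← hg, hφ]⟩
  -- two elements of the same class
  have tr : ∀ c y z : T, (∃ g : T, g * c * g⁻¹ = y) → (∃ g : T, g * c * g⁻¹ = z) → ∃ g : T, g * y * g⁻¹ = z := by
    rintro c y z ⟨g, rfl⟩ ⟨h, rfl⟩
    exact ⟨h * g⁻¹, by group⟩
  by_cases hno : ∀ p : ℕ, p.Prime → v ≠ p → ∀ z : T, orderOf z ≠ v * p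
  · -- the elements of a cyclic group of order `v`
    obtain ⟨x, hx⟩ := exists_prime_orderOf_dvd_card' v hd
    have hcard : ∀ y : T, orderOf y = v → Nat.card (conjPow y) = (Nat.card T / v) % v := by
      intro y hy
      have hc := card_cent_of_noOrd hv h2 hno hy
      have hN := (card_norm_mod hv h2 hne hc).1
      have h3 := card_conjPow_mul y
      rw [hc, hN, mul_comm v] at h3
      exact Nat.eq_of_mul_eq_mul_right hv.pos h3
    let P : Finset T := Finset.univ.filter fun y => y ∈ zpowers x ∧ y ≠ 1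
    have hP : P.card = v - 1 := by
      have h1 : P = (Finset.univ.filter fun y => y ∈ zpowers x).erase 1 := by
        ext y
        simp only [P, Finset.mem_filter, Finset.mem_univ, true_and, Finset.mem_erase]
        tauto
      rw [h1, Finset.card_erase_of_mem (by simp), ← hx, ← Nat.card_zpowers, Nat.card_eq_fintype_card,
        Fintype.card_subtype]
    have hord : ∀ y ∈ P, orderOf y = v := by
      intro y hy
      simp only [P, Finset.mem_filter, Finset.mem_univ, true_and] at hy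
      have h1 : orderOf y ∣ v := by
        rw [← hx]
        exact orderOf_dvd_of_mem_zpowers hy.1
      rcases (Nat.dvd_prime hv).1 h1 with h2 | h2
      · exact absurd (orderOf_eq_one_iff.1 h2) hy.2
      · exact h2
    have hzp : ∀ y ∈ P, zpowers y = zpowers x := by
      intro y hy
      have hy1 : y ∈ zpowers x := by
        have := hy
        simp only [P, Finset.mem_filter, Finset.mem_univ, true_and] at this
        exact this.1
      refine Subgroup.eq_of_le_of_card_ge (zpowers_le.2 hy1) ?_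
      rw [Nat.card_zpowers, Nat.card_zpowers, hx, hord y hy]
    have key : ∀ c : T, (P.filter fun y => ∃ g : T, g * c * g⁻¹ = y).card ≤ (Nat.card T / v) % v := by
      intro c
      rcases Finset.eq_empty_or_nonempty (P.filter fun y => ∃ g : T, g * c * g⁻¹ = y) with h0 | ⟨y0, hy0⟩
      · rw [h0]
        exact Nat.zero_le _
      rw [Finset.mem_filter] at hy0
      rw [← hcard y0 (hord y0 hy0.1), ← Set.ncard_coe_finset, ← Nat.card_coe_set_eq]
      refine Nat.card_le_card_of_injective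
        (fun y : ((P.filter fun y => ∃ g : T, g * c * g⁻¹ = y : Finset T) : Set T) =>
          (⟨(y : T), ?_, ?_⟩ : conjPow y0)) ?_
      · have hy := y.2
        rw [Finset.mem_coe, Finset.mem_filter] at hy
        rw [hzp y0 hy0.1]
        have := hy.1
        simp only [P, Finset.mem_filter, Finset.mem_univ, true_and] at this
        exact this.1
      · have hy := y.2
        rw [Finset.mem_coe, Finset.mem_filter] at hy
        exact tr c _ _ hy0.2 hy.2
      · intro y z hyz
        exact Subtype.ext (congrArg (fun w : conjPow y0 => (w : T)) hyz)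
    have hcov : P ⊆ (P.filter fun y => ∃ g : T, g * a * g⁻¹ = y) ∪ P.filter fun y => ∃ g : T, g * b * g⁻¹ = y := by
      intro y hy
      rcases hab' y (by rw [hord y hy]) with h1 | h1
      · exact Finset.mem_union.2 (Or.inl (Finset.mem_filter.2 ⟨hy, h1⟩))
      · exact Finset.mem_union.2 (Or.inr (Finset.mem_filter.2 ⟨hy, h1⟩))
    have h3 := (Finset.card_le_card hcov).trans (Finset.card_union_le _ _)
    rw [hP] at h3
    have h4 := key a
    have h5 := key b
    omega
  · -- an element of order `v p`, `p` odd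
    push Not at hno
    obtain ⟨p, hp, hvp, z, hz⟩ := hno
    have hp2 : p ≠ 2 := fun h => hNA z (by rw [hz, h])
    have hcop : Nat.Coprime v p := (Nat.coprime_primes hv hp).2 hvp
    have hx : orderOf (z ^ p) = v := by
      rw [orderOf_pow_of_dvd hp.ne_zero (by rw [hz]; exact dvd_mul_left _ _), hz, Nat.mul_div_cancel _ hp.pos]
    have hw : orderOf (z ^ v) = p := by
      rw [orderOf_pow_of_dvd hv.ne_zero (by rw [hz]; exact dvd_mul_right _ _), hz, Nat.mul_div_cancel_left _ hv.pos]
    have hxw : z ^ p * z ^ v = z ^ v * z ^ p := ((Commute.refl z).pow_pow p v).eq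
    have hw' : orderOf (z ^ v)⁻¹ = p := by rw [orderOf_inv, hw]
    have hxw' : z ^ p * (z ^ v)⁻¹ = (z ^ v)⁻¹ * z ^ p := (show Commute (z ^ p) (z ^ v) from hxw).inv_right.eq
    generalize z ^ p = x at hx hxw hxw'
    generalize z ^ v = w at hw hxw hw' hxw'
    have ho1 := orderOf_mul_coprime hx hw hcop hxw
    have ho2 := orderOf_mul_coprime hx hw' hcop hxw'
    have hne1 : v ≠ v * p := by
      intro h
      have := hv.pos
      have := hp.one_lt
      nlinarith
    -- the class of `x` is different from that of `x w`, `x w⁻¹`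
    have hconj : ∀ c y y' : T, (∃ g : T, g * c * g⁻¹ = y) → (∃ g : T, g * c * g⁻¹ = y') → orderOf y = orderOf y' := by
      intro c y y' h h'
      obtain ⟨g, rfl⟩ := tr c y y' h h'
      exact (orderOf_conj g y).symm
    obtain ⟨g, hg⟩ : ∃ g : T, g * (x * w) * g⁻¹ = x * w⁻¹ := by
      rcases hab' x (by rw [hx]) with h1 | h1 <;>
      rcases hab' (x * w) (by rw [ho1]; exact dvd_mul_right _ _) with h3 | h3 <;>
      rcases hab' (x * w⁻¹) (by rw [ho2]; exact dvd_mul_right _ _) with h4 | h4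
      · exact tr _ _ _ h3 h4
      · exact absurd (hx.symm.trans ((hconj _ _ _ h1 h3).trans ho1)) hne1
      · exact absurd (hx.symm.trans ((hconj _ _ _ h1 h4).trans ho2)) hne1
      · exact tr _ _ _ h3 h4
      · exact tr _ _ _ h3 h4
      · exact absurd (hx.symm.trans ((hconj _ _ _ h1 h4).trans ho2)) hne1
      · exact absurd (hx.symm.trans ((hconj _ _ _ h1 h3).trans ho1)) hne1
      · exact tr _ _ _ h3 h4
    -- `g` commutes with `x`
    have h5 : (x * w) ^ p = x ^ p := by
      rw [(show Commute x w from hxw).mul_pow, ← hw, pow_orderOf_eq_one, mul_one]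
    have h6 : (x * w⁻¹) ^ p = x ^ p := by
      rw [(show Commute x w⁻¹ from hxw').mul_pow, ← hw', pow_orderOf_eq_one, mul_one]
    have h7 : g * x ^ p * g⁻¹ = x ^ p := by
      rw [← h5, ← conj_pow, hg, h6, h5]
    obtain ⟨j, hj⟩ : ∃ j : ℤ, (x ^ p) ^ j = x := by
      refine ⟨Nat.gcdB v p, ?_⟩
      rw [← zpow_natCast, ← zpow_mul]
      have h3 := Nat.gcd_eq_gcd_ab v p
      rw [Nat.coprime_iff_gcd_eq_one.1 hcop] at h3
      have h4 : (p : ℤ) * Nat.gcdB v p = 1 - v * Nat.gcdA v p := by push_cast at h3; linarith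
      rw [h4, zpow_sub, zpow_one, zpow_mul, zpow_natCast, ← hx, pow_orderOf_eq_one, one_zpow, inv_one, mul_one]
    have h8 : g * x * g⁻¹ = x := by
      conv_lhs => rw [← hj]
      rw [← conj_zpow, h7, hj]
    have h9 : g * w * g⁻¹ = w⁻¹ := by
      have h10 : g * (x * w) * g⁻¹ = (g * x * g⁻¹) * (g * w * g⁻¹) := by group
      rw [hg, h8] at h10
      exact (mul_left_cancel h10).symm
    -- the centralizer of `x` has odd order
    have hodd : ¬ 2 ∣ Nat.card (centralizer ({x} : Set T)) := by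
      intro hd2
      have h2' : Fact (Nat.Prime 2) := ⟨Nat.prime_two⟩
      obtain ⟨⟨u, huC⟩, hu⟩ := exists_prime_orderOf_dvd_card' (G := centralizer ({x} : Set T)) 2 hd2
      rw [Subgroup.orderOf_mk] at hu
      exact hNA _ (orderOf_mul_of_comm hv Nat.prime_two hv2 hx hu (mem_centralizer_singleton_iff.1 huC).symm)
    have hgC : g ∈ centralizer ({x} : Set T) := by
      rw [mem_centralizer_singleton_iff]
      calc g * x = g * x * g⁻¹ * g := by group
        _ = x * g := by rw [h8]
    have hw1 := eq_one_of_conj_inv (g := g) (w := w) (fun h => hodd (h.trans (Subgroup.orderOf_dvd_natCard _ hgC)))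
      (by rw [hw]; exact fun h => hp2 ((Nat.prime_dvd_prime_iff_eq Nat.prime_two hp).1 h).symm) h9
    rw [hw1, orderOf_one] at hw
    exact hp.one_lt.ne hw

/-- boolean form -/
def chkSCC (n v : ℕ) : Bool := (n % v == 0) && (n % v ^ 2 != 0) && (n != v) && Nat.blt (2 * ((n / v) % v)) (v - 1)

theorem not_SCC_of_chk [Finite T] {v n : ℕ} (hv : v.Prime) (hv2 : v ≠ 2) (hn : Nat.card T = n)
    (hO : Nat.card (Cfsg.Out T) = 1) (hNA : ∀ z : T, orderOf z ≠ v * 2)
    (h : chkSCC n v = true) : ¬ SCC T v := by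
  unfold chkSCC at h
  simp only [Bool.and_eq_true] at h
  obtain ⟨⟨⟨h1, h2⟩, h3⟩, h4⟩ := h
  refine not_SCC_of_mod hv hv2 hn (Nat.dvd_of_mod_eq_zero (by simpa using h1)) (fun h => ?_) (by simpa using h3) hO hNA ?_
  · rw [Nat.mod_eq_zero_of_dvd h] at h2
    exact absurd h2 (by decide)
  · simpa [Nat.blt_eq] using h4

end Cfsg.Agent.H257.El
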